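import Groth.Agent.L03.HilbertClass
import Mathlib.RingTheory.MvPolynomial.Basic
import Mathlib.RingTheory.Polynomial.Basic
import Mathlib.RingTheory.Ideal.AssociatedPrime.Finiteness
import Mathlib.RingTheory.Length
import Mathlib.RingTheory.LocalRing.ResidueField.Basic
import Mathlib.Algebra.Module.LocalizedModule.Exact
import Mathlib.RingTheory.Artinian.Module
import Mathlib.RingTheory.Localization.AtPrime.Basic
import Mathlib.Algebra.Polynomial.FieldDivision
import Mathlib.RingTheory.PrincipalIdealDomain
import Mathlib.RingTheory.Localization.Finiteness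
import Groth.Agent.L04.CMBasic

/-!
The Grothendieck group of finite modules over `k[x,y]/(xy)`.
-/

set_option autoImplicit false
set_option linter.style.haveILetI false
universe u

open CategoryTheory MvPolynomial

namespace Groth.L14.KNode

variable (k : Type u) [Field k]

/-- The coordinate ring of the node. -/
abbrev A : Type u := MvPolynomial (Fin 2) k ⧸ Ideal.span {(X 0 * X 1 : MvPolynomial (Fin 2) k)}

/-- The coordinate functions. -/
noncomputable abbrev x (i : Fin 2) : A k := Ideal.Quotient.mk _ (X i)

theorem x_mul (i j : Fin 2) (h : i ≠ j) : x k i * x k j = 0 := by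
  fin_cases i <;> fin_cases j
  · exact absurd rfl h
  · exact Ideal.Quotient.eq_zero_iff_mem.2 (Ideal.mem_span_singleton_self _)
  · rw [mul_comm]
    exact Ideal.Quotient.eq_zero_iff_mem.2 (Ideal.mem_span_singleton_self _)
  · exact absurd rfl h

/-- Restriction to the axis on which `x i` vanishes. -/
noncomputable def toAxis (i : Fin 2) : A k →ₐ[k] Polynomial k :=
  Ideal.Quotient.liftₐ _ (aeval fun l => if l = i then 0 else Polynomial.X) fun a ha => by
    obtain ⟨c, rfl⟩ := Ideal.mem_span_singleton.1 ha
    fin_cases i <;> simp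

theorem toAxis_x (i l : Fin 2) : toAxis k i (x k l) = if l = i then 0 else Polynomial.X := by
  show aeval _ (X l) = _
  rw [aeval_X]

theorem toAxis_surjective (i : Fin 2) : Function.Surjective (toAxis k i) := by
  intro p
  obtain ⟨j, hj⟩ := exists_ne i
  refine ⟨Polynomial.aeval (x k j) p, ?_⟩
  rw [← Polynomial.aeval_algHom_apply, toAxis_x, if_neg hj, Polynomial.aeval_X_left_apply]

theorem ker_toAxis (i : Fin 2) : RingHom.ker (toAxis k i) = Ideal.span {x k i} := by
  obtain ⟨j, hj⟩ := exists_ne i
  refine le_antisymm (fun a ha => ?_) ?_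
  · have hsec : a - Polynomial.aeval (x k j) (toAxis k i a) ∈ Ideal.span {x k i} := by
      clear ha
      obtain ⟨b, rfl⟩ := Ideal.Quotient.mk_surjective a
      have e : (Ideal.Quotient.mkₐ k (Ideal.span {x k i})).comp
            ((Polynomial.aeval (x k j)).comp (aeval fun l => if l = i then 0 else Polynomial.X)) =
          (Ideal.Quotient.mkₐ k (Ideal.span {x k i})).comp (Ideal.Quotient.mkₐ k _) := by
        refine MvPolynomial.algHom_ext fun l => ?_
        simp only [AlgHom.comp_apply, aeval_X]
        by_cases hl : l = i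
        · subst hl
          rw [if_pos rfl, map_zero, map_zero]
          exact (Ideal.Quotient.eq_zero_iff_mem.2 (Ideal.mem_span_singleton_self _)).symm
        · obtain rfl : l = j := by
            fin_cases l <;> fin_cases i <;> fin_cases j <;> first | rfl | exact absurd rfl hl | exact absurd rfl hj
          rw [if_neg hl, Polynomial.aeval_X]
          rfl
      exact Ideal.Quotient.eq.1 (congrFun (congrArg DFunLike.coe e) b).symm
    rw [RingHom.mem_ker] at ha
    rwa [ha, map_zero, sub_zero] at hsec
  · rw [Ideal.span_singleton_le_iff_mem, RingHom.mem_ker, toAxis_x, if_pos rfl]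

theorem isPrime_span (i : Fin 2) : (Ideal.span {x k i}).IsPrime :=
  ker_toAxis k i ▸ RingHom.ker_isPrime _

theorem x_notMem (i j : Fin 2) (h : j ≠ i) : x k j ∉ Ideal.span {x k i} := by
  rw [← ker_toAxis, RingHom.mem_ker, toAxis_x, if_neg h]
  exact Polynomial.X_ne_zero

/-- A prime containing `x i` has class zero or is `(x i)`. -/
theorem prime_class (i : Fin 2) (p : Ideal (A k)) [p.IsPrime] (hi : x k i ∈ p) :
    p = Ideal.span {x k i} ∨
      KZero.clSub (Groth.L03.HilbertClass.fin (A := A k)) (ModuleCat.of (A k) (A k ⧸ p)) = 0 := by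
  let q := Ideal.span {x k i}
  haveI := isPrime_span k i
  have hqp : q ≤ p := (Ideal.span_singleton_le_iff_mem _).2 hi
  have hker : RingHom.ker (toAxis k i).toRingHom ≤ p := by
    show RingHom.ker (toAxis k i) ≤ p
    rw [ker_toAxis]; exact hqp
  obtain ⟨g, hg⟩ := (IsPrincipalIdealRing.principal (p.map (toAxis k i).toRingHom)).principal
  obtain ⟨f, rfl⟩ := toAxis_surjective k i g
  have hp : p = q ⊔ Ideal.span {f} := by
    have h1 := Ideal.comap_map_of_surjective (toAxis k i).toRingHom (toAxis_surjective k i) p
    rw [← RingHom.ker_eq_comap_bot, sup_eq_left.2 hker] at h1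
    rw [← h1, hg, show Submodule.span (Polynomial k) {(toAxis k i) f} = (Ideal.span {f}).map (toAxis k i).toRingHom by
      rw [Ideal.map_span, Set.image_singleton]; rfl,
      Ideal.comap_map_of_surjective (toAxis k i).toRingHom (toAxis_surjective k i), ← RingHom.ker_eq_comap_bot, sup_comm]
    congr 1
    exact ker_toAxis k i
  by_cases hf : f ∈ q
  · left
    rw [hp]
    exact sup_eq_left.2 ((Ideal.span_singleton_le_iff_mem _).2 hf)
  right
  let μ : (A k ⧸ q) →ₗ[A k] (A k ⧸ q) := LinearMap.lsmul (A k) (A k ⧸ q) f
  let π : (A k ⧸ q) →ₗ[A k] (A k ⧸ p) := Submodule.factor hqp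
  have hμ : Function.Injective μ := by
    refine (injective_iff_map_eq_zero μ).2 fun z hz => ?_
    obtain ⟨a, rfl⟩ := Ideal.Quotient.mk_surjective z
    exact Ideal.Quotient.eq_zero_iff_mem.2
      ((Ideal.IsPrime.mem_or_mem (I := q) inferInstance (Ideal.Quotient.eq_zero_iff_mem.1 hz)).resolve_left hf)
  have hex : Function.Exact μ π := by
    intro z
    obtain ⟨a, rfl⟩ := Ideal.Quotient.mk_surjective z
    constructor
    · intro hz
      have ha : a ∈ p := Ideal.Quotient.eq_zero_iff_mem.1 hz
      rw [hp, Submodule.mem_sup] at ha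
      obtain ⟨c, hc, d, hd, rfl⟩ := ha
      obtain ⟨e, rfl⟩ := Ideal.mem_span_singleton.1 hd
      refine ⟨Ideal.Quotient.mk q e, ?_⟩
      show Ideal.Quotient.mk q (f * e) = Ideal.Quotient.mk q (c + f * e)
      rw [Ideal.Quotient.eq, show f * e - (c + f * e) = -c by ring]
      exact neg_mem hc
    · rintro ⟨w, hw⟩
      obtain ⟨b, rfl⟩ := Ideal.Quotient.mk_surjective w
      have h1 : π (μ (Ideal.Quotient.mk q b)) = 0 := by
        show Ideal.Quotient.mk p (f * b) = 0
        rw [Ideal.Quotient.eq_zero_iff_mem, hp]
        exact Ideal.mem_sup_right (Ideal.mul_mem_right _ _ (Ideal.mem_span_singleton_self f))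
      rwa [hw] at h1
  have := Groth.L03.HilbertClass.cl_exact μ π hμ (Submodule.factor_surjective hqp) hex
  simpa using this

/-- The classes of the two axes generate. -/
theorem generates (P : AddSubgroup (KZero.K0sub (Groth.L03.HilbertClass.fin (A := A k))))
    (h : ∀ i, KZero.clSub (Groth.L03.HilbertClass.fin (A := A k)) (ModuleCat.of (A k) (A k ⧸ Ideal.span {x k i})) ∈ P) :
    P = ⊤ := by
  have key : ∀ (M : Type u) [AddCommGroup M] [Module (A k) M] [Module.Finite (A k) M],
      KZero.clSub (Groth.L03.HilbertClass.fin (A := A k)) (ModuleCat.of (A k) M) ∈ P := by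
    intro M _ _ _
    induction ‹Module.Finite (A k) M› using IsNoetherianRing.induction_on_isQuotientEquivQuotientPrime with
    | subsingleton N => rw [Groth.L03.HilbertClass.cl_eq_zero]; exact zero_mem _
    | quotient N p e =>
      haveI := p.2
      have he := Groth.L03.HilbertClass.cl_exact (M := N) (P := PUnit.{u + 1}) e.toLinearMap 0 e.injective
        (Function.surjective_to_subsingleton _) ((e.toLinearMap.exact_zero_iff_surjective _).2 e.surjective)
      rw [Groth.L03.HilbertClass.cl_eq_zero PUnit.{u + 1}, add_zero] at he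
      rw [← he]
      rcases Ideal.IsPrime.mem_or_mem p.2 (x_mul k 0 1 (by decide) ▸ zero_mem p.1 : x k 0 * x k 1 ∈ p.1) with h0 | h0
      · rcases prime_class k 0 p.1 h0 with h1 | h1
        · rw [h1]; exact h 0
        · rw [h1]; exact zero_mem _
      · rcases prime_class k 1 p.1 h0 with h1 | h1
        · rw [h1]; exact h 1
        · rw [h1]; exact zero_mem _
    | exact N₁ N₂ N₃ f g hf hg hfg h₁ h₃ =>
      rw [Groth.L03.HilbertClass.cl_exact f g hf hg hfg]
      exact add_mem h₁ h₃
  rw [eq_top_iff]
  rintro z -
  obtain ⟨z, rfl⟩ := QuotientAddGroup.mk_surjective z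
  induction z using FreeAbelianGroup.induction_on with
  | zero => exact zero_mem _
  | of X =>
    rw [← Groth.L29.KSub.clSub_of _ X.2]
    haveI : Module.Finite (A k) X.1 := X.2
    exact key X.1
  | neg X hX => exact neg_mem hX
  | add a b ha hb => exact add_mem ha hb

theorem isSimpleModule_loc (i : Fin 2) [(Ideal.span {x k i}).IsPrime] :
    IsSimpleModule (Localization.AtPrime (Ideal.span {x k i})) (Localization.AtPrime (Ideal.span {x k i})) := by
  obtain ⟨j, hj⟩ := exists_ne i
  have hzero : algebraMap (A k) (Localization.AtPrime (Ideal.span {x k i})) (x k i) = 0 :=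
    (IsLocalization.map_eq_zero_iff (Ideal.span {x k i}).primeCompl _ _).2
      ⟨⟨x k j, x_notMem k i j hj⟩, x_mul k j i hj⟩
  have hm : IsLocalRing.maximalIdeal (Localization.AtPrime (Ideal.span {x k i})) = ⊥ := by
    rw [← Localization.AtPrime.map_eq_maximalIdeal, Ideal.map_span, Set.image_singleton, hzero,
      Ideal.span_singleton_eq_bot]
  exact isSimpleModule_self_iff_isUnit.2 ⟨inferInstance, fun z hz =>
    by_contra fun hu => hz (by
      have : z ∈ IsLocalRing.maximalIdeal (Localization.AtPrime (Ideal.span {x k i})) :=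
        (IsLocalRing.mem_maximalIdeal z).2 hu
      rwa [hm, Submodule.mem_bot] at this)⟩

theorem finite_props (R : Type u) [CommRing R] [IsNoetherianRing R] [IsArtinianRing R] (M : Type u)
    [AddCommGroup M] [Module R M] [Module.Finite R M] : IsNoetherian R M ∧ IsArtinian R M :=
  ⟨isNoetherian_of_isNoetherianRing_of_finite R M, isArtinian_of_fg_of_artinian'⟩

/-- The length at the generic point of the axis where `x i` vanishes. -/
noncomputable def lenAt (i : Fin 2) : KZero.K0sub (Groth.L03.HilbertClass.fin (A := A k)) →+ ℤ :=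
  haveI := isPrime_span k i
  Groth.L29.KSub.lift
    (fun M => ((Module.length (Localization.AtPrime (Ideal.span {x k i}))
      (LocalizedModule (Ideal.span {x k i}).primeCompl M)).toNat : ℤ))
    (fun S hS h₁ h₂ h₃ => by
      let B := Localization.AtPrime (Ideal.span {x k i})
      haveI := isSimpleModule_loc k i
      obtain ⟨hN, hA⟩ := isFiniteLength_iff_isNoetherian_isArtinian.1 (Module.length_ne_top_iff.1
        (show Module.length B B ≠ ⊤ by rw [Module.length_eq_one]; exact ENat.one_ne_top))
      haveI : IsNoetherianRing B := hN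
      haveI : IsArtinianRing B := hA
      haveI : Module.Finite (A k) S.X₁ := h₁
      haveI : Module.Finite (A k) S.X₂ := h₂
      haveI : Module.Finite (A k) S.X₃ := h₃
      have hfin : ∀ (M : ModuleCat.{u} (A k)) [Module.Finite (A k) M],
          Module.Finite B (LocalizedModule (Ideal.span {x k i}).primeCompl M) := fun M _ =>
        Module.Finite.of_isLocalizedModule (Ideal.span {x k i}).primeCompl
          (LocalizedModule.mkLinearMap (Ideal.span {x k i}).primeCompl M)
      haveI := hfin S.X₁
      haveI := hfin S.X₂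
      haveI := hfin S.X₃
      have hNA : ∀ (M : Type u) [AddCommGroup M] [Module B M] [Module.Finite B M], IsNoetherian B M ∧ IsArtinian B M :=
        fun M _ _ _ => finite_props B M
      haveI := (hNA (LocalizedModule (Ideal.span {x k i}).primeCompl S.X₁)).1
      haveI := (hNA (LocalizedModule (Ideal.span {x k i}).primeCompl S.X₁)).2
      haveI := (hNA (LocalizedModule (Ideal.span {x k i}).primeCompl S.X₃)).1
      haveI := (hNA (LocalizedModule (Ideal.span {x k i}).primeCompl S.X₃)).2
      let l := fun (M : ModuleCat.{u} (A k)) => Module.length B (LocalizedModule (Ideal.span {x k i}).primeCompl M)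
      have hex := LocalizedModule.map_exact (Ideal.span {x k i}).primeCompl S.f.hom S.g.hom
        ((ShortComplex.ShortExact.moduleCat_exact_iff_function_exact S).1 hS.exact)
      have hadd := Module.length_eq_add_of_exact (R := B)
        (LocalizedModule.map (Ideal.span {x k i}).primeCompl S.f.hom) (LocalizedModule.map (Ideal.span {x k i}).primeCompl S.g.hom)
        (LocalizedModule.map_injective _ _ ((ModuleCat.mono_iff_injective _).1 hS.mono_f))
        (LocalizedModule.map_surjective _ _ ((ModuleCat.epi_iff_surjective _).1 hS.epi_g)) hex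
      rw [hadd, ENat.toNat_add Module.length_ne_top Module.length_ne_top]
      push_cast
      rfl)

theorem lenAt_axis (i l : Fin 2) :
    lenAt k i (KZero.clSub (Groth.L03.HilbertClass.fin (A := A k)) (ModuleCat.of (A k) (A k ⧸ Ideal.span {x k l}))) =
      if l = i then 1 else 0 := by
  haveI := isPrime_span k i
  rw [lenAt, Groth.L29.KSub.lift_clSub _ _
    (inferInstanceAs (Module.Finite (A k) (A k ⧸ Ideal.span {x k l})))]
  let B := Localization.AtPrime (Ideal.span {x k i})
  let S := (Ideal.span {x k i}).primeCompl
  by_cases h : l = i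
  · subst h
    rw [if_pos rfl]
    obtain ⟨j, hj⟩ := exists_ne l
    have hzero : algebraMap (A k) B (x k l) = 0 :=
      (IsLocalization.map_eq_zero_iff S B _).2 ⟨⟨x k j, x_notMem k l j hj⟩, x_mul k j l hj⟩
    haveI := isSimpleModule_loc k l
    let π := LocalizedModule.map S (Submodule.mkQ (Ideal.span {x k l}))
    have hsurj : Function.Surjective π := LocalizedModule.map_surjective _ _ (Submodule.mkQ_surjective _)
    have hinj : Function.Injective π := by
      refine (injective_iff_map_eq_zero π).2 fun z hz => ?_
      induction z using LocalizedModule.induction_on with | h a s => ?_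
      rw [show π (LocalizedModule.mk a s) = LocalizedModule.mk (Submodule.mkQ (Ideal.span {x k l}) a) s from
        LocalizedModule.map_mk _ _ _ _, ← LocalizedModule.zero_mk s, LocalizedModule.mk_eq] at hz
      obtain ⟨t, ht⟩ := hz
      simp only [smul_zero] at ht
      rw [← LinearMap.map_smul_of_tower, ← LinearMap.map_smul_of_tower, Submodule.mkQ_apply,
        Submodule.Quotient.mk_eq_zero] at ht
      obtain ⟨c, hc⟩ := Ideal.mem_span_singleton.1 ht
      rw [← LocalizedModule.zero_mk s, LocalizedModule.mk_eq]
      refine ⟨⟨x k j, x_notMem k l j hj⟩ * t, ?_⟩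
      simp only [smul_zero, mul_smul]
      rw [hc]
      show x k j * (x k l * c) = 0
      rw [← mul_assoc, x_mul k j l hj, zero_mul]
    rw [← (LinearEquiv.ofBijective π ⟨hinj, hsurj⟩).length_eq,
      (Groth.L04.localizedModuleSelfEquiv (Ideal.span {x k l})).length_eq, Module.length_eq_one]
    rfl
  · rw [if_neg h]
    have hs : Subsingleton (LocalizedModule S (A k ⧸ Ideal.span {x k l})) := by
      rw [LocalizedModule.subsingleton_iff]
      intro m
      obtain ⟨m, rfl⟩ := Ideal.Quotient.mk_surjective m
      exact ⟨x k l, x_notMem k i l h, Ideal.Quotient.eq_zero_iff_mem.2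
        (Ideal.mul_mem_right _ _ (Ideal.mem_span_singleton_self _))⟩
    rw [Module.length_eq_zero]
    rfl

theorem bijective :
    Function.Bijective fun p : ℤ × ℤ =>
      p.1 • KZero.clSub (Groth.L03.HilbertClass.fin (A := A k)) (ModuleCat.of (A k) (A k ⧸ Ideal.span {x k 0})) +
      p.2 • KZero.clSub (Groth.L03.HilbertClass.fin (A := A k)) (ModuleCat.of (A k) (A k ⧸ Ideal.span {x k 1})) := by
  refine ⟨fun p q hpq => ?_, fun z => ?_⟩
  · have h0 := congrArg (lenAt k 0) hpq
    have h1 := congrArg (lenAt k 1) hpq
    simp only [map_add, map_zsmul, lenAt_axis] at h0 h1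
    simp at h0 h1
    exact Prod.ext h0 h1
  · have hz : z ∈ AddSubgroup.closure
        {KZero.clSub (Groth.L03.HilbertClass.fin (A := A k)) (ModuleCat.of (A k) (A k ⧸ Ideal.span {x k 0})),
          KZero.clSub (Groth.L03.HilbertClass.fin (A := A k)) (ModuleCat.of (A k) (A k ⧸ Ideal.span {x k 1}))} := by
      rw [generates k (AddSubgroup.closure _) fun i => AddSubgroup.subset_closure (by fin_cases i <;> simp)]
      trivial
    obtain ⟨m, n, hmn⟩ := AddSubgroup.mem_closure_pair.1 hz
    exact ⟨(m, n), hmn⟩

end Groth.L14.KNode
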